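import Groth.Agent.FormalFun.Theory
import Mathlib.RingTheory.AdicCompletion.AsTensorProduct

/-!
# The theorem on formal functions in terms of `Coh.HH`
-/

set_option backward.isDefEq.respectTransparency false

universe u

open CategoryTheory CategoryTheory.Limits AlgebraicGeometry TopologicalSpace Opposite
open scoped Groth.Agent.CohVanish TensorProduct

namespace Groth.Agent.FormalFun

open Groth.Agent.CohFinite Groth.Agent.CechCmp Groth.Agent.CohVanish

theorem bijective_of_finite {A : Type u} [CommRing A] [IsNoetherianRing A] (I : Ideal A) [IsAdicComplete I A]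
    (H : Type u) [AddCommGroup H] [Module A H] [Module.Finite A H] :
    Function.Bijective (AdicCompletion.of I H) := by
  let e : A ≃ₗ[A] AdicCompletion I A := LinearEquiv.ofBijective (AdicCompletion.of I A) (AdicCompletion.of_bijective I A)
  let g : H ≃ₗ[A] AdicCompletion I A ⊗[A] H :=
    (TensorProduct.lid A H).symm.trans (TensorProduct.congr e (LinearEquiv.refl A H))
  have hg : ∀ x, AdicCompletion.of I H x = AdicCompletion.ofTensorProductEquivOfFiniteNoetherian I H (g x) := fun x => by
    rw [AdicCompletion.ofTensorProductEquivOfFiniteNoetherian_apply]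
    simp only [g, LinearEquiv.trans_apply, TensorProduct.lid_symm_apply, TensorProduct.congr_tmul,
      LinearEquiv.refl_apply, AdicCompletion.ofTensorProduct_tmul]
    rw [show (e 1 : AdicCompletion I A) = 1 from AdicCompletion.ext fun n => rfl, one_smul]
  have := (AdicCompletion.ofTensorProductEquivOfFiniteNoetherian I H).bijective.comp g.bijective
  exact (funext hg : ⇑(AdicCompletion.of I H) = _) ▸ this

variable {A : Type u} [CommRing A] {X : Scheme.{u}} [X.Over (Spec (CommRingCat.of A))]
  (I : Ideal A) (M : X.Modules)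

local notation "φ₀" => Coh.toGlobal (X ↘ Spec (CommRingCat.of A))

/-- The maps on `Coh.HH`, linearly. -/
noncomputable def hhMap {M N : X.Modules} (f : M ⟶ N) (p : ℕ) : Coh.HH X M p →ₗ[A] Coh.HH X N p :=
  (hhEquiv N p).symm.toLinearMap ∘ₗ hMap φ₀ f p ∘ₗ (hhEquiv M p).toLinearMap

theorem hhMap_eq {M N : X.Modules} (f : M ⟶ N) (p : ℕ) (x : Coh.HH X M p) :
    hhMap (A := A) f p x = Sheaf.H.map ((SheafOfModules.toSheaf _).map f) p x := by
  refine (hhEquiv (A := A) N p).injective ?_
  change hhEquiv N p ((hhEquiv N p).symm (hMap φ₀ f p (hhEquiv M p x))) = _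
  rw [LinearEquiv.apply_symm_apply]
  exact (hEquiv_map (X := sp X) ((SheafOfModules.toSheaf _).map f) p x).symm

theorem toHHmodPow_eq (p n : ℕ) (x : Coh.HH X M p) :
    Formal.toHHmodPow I M p n x = hhMap (A := A) (Formal.modPowπ I (n + 1) M) p x :=
  (hhMap_eq _ p x).symm

theorem mem_ker_toHHmodPow (p n : ℕ) (x : Coh.HH X M p) :
    Formal.toHHmodPow I M p n x = 0 ↔ hhEquiv M p x ∈ LinearMap.ker (qMap I M p (n + 1)) := by
  rw [toHHmodPow_eq, hhMap, LinearMap.comp_apply, LinearMap.comp_apply, LinearEquiv.coe_coe,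
    LinearEquiv.map_eq_zero_iff]
  rfl

theorem pow_smul_le_ker_hh (p n : ℕ) (x : Coh.HH X M p) (hx : x ∈ I ^ (n + 1) • (⊤ : Submodule A (Coh.HH X M p))) :
    Formal.toHHmodPow I M p n x = 0 :=
  (mem_ker_toHHmodPow I M p n x).2 (pow_smul_le_ker I M p (n + 1) (by
    have := Submodule.mem_map_of_mem (f := (hhEquiv (A := A) M p).toLinearMap) hx
    rwa [Submodule.map_smul'', Submodule.map_top, LinearEquiv.range] at this))

variable {I M} [IsNoetherianRing A] [IsNoetherian X] (hM : Coh.IsCoh M) (hfin : HasFin (A := A) M)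

include hM hfin in
theorem exists_ker_succ (p : ℕ) : ∃ c, ∀ k, c ≤ k →
    ((Formal.toHHmodPow I M p (k + 1)).ker : Set (Coh.HH X M p)) =
      ((I • Submodule.span A ((Formal.toHHmodPow I M p k).ker : Set (Coh.HH X M p)) :
        Submodule A (Coh.HH X M p)) : Set (Coh.HH X M p)) := by
  obtain ⟨c, hc⟩ := ker_qMap_succ I hM hfin p
  refine ⟨c, fun k hk => ?_⟩
  have e : ∀ n, ((Formal.toHHmodPow I M p n).ker : Set (Coh.HH X M p)) =
      (((LinearMap.ker (qMap I M p (n + 1))).comap (hhEquiv (A := A) M p).toLinearMap : Submodule A (Coh.HH X M p)) :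
        Set (Coh.HH X M p)) := fun n => Set.ext fun x => mem_ker_toHHmodPow I M p n x
  rw [e, e, Submodule.span_eq, hc (k + 1) (by omega)]
  rw [Submodule.comap_equiv_eq_map_symm, Submodule.comap_equiv_eq_map_symm, Submodule.map_smul'']

include hM hfin in
theorem exists_ker_le (p : ℕ) : ∃ c, ∀ n, c ≤ n →
    ((Formal.toHHmodPow I M p n).ker : Set (Coh.HH X M p)) ⊆
      ((I ^ (n - c) • (⊤ : Submodule A (Coh.HH X M p)) : Submodule A (Coh.HH X M p)) : Set (Coh.HH X M p)) := by
  obtain ⟨c, hc⟩ := ker_qMap_le I hM hfin p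
  refine ⟨c, fun n hn x hx => ?_⟩
  have h1 : hhEquiv (A := A) M p x ∈ I ^ (n - c) • (⊤ : Submodule A _) :=
    Submodule.smul_mono (Ideal.pow_le_pow_right (by omega)) le_rfl
      (hc (n + 1) (by omega) ((mem_ker_toHHmodPow I M p n x).1 hx))
  have := Submodule.mem_map_of_mem (f := (hhEquiv (A := A) M p).symm.toLinearMap) h1
  rwa [Submodule.map_smul'', Submodule.map_top, LinearEquiv.range, LinearEquiv.coe_coe,
    LinearEquiv.symm_apply_apply] at this

include hM hfin in
theorem exists_range_eq (p : ℕ) : ∃ c : ℕ, ∀ (n k : ℕ) (h : n ≤ k), n + c ≤ k →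
    Set.range (Sheaf.H.map ((SheafOfModules.toSheaf X.ringCatSheaf).map
      ((Formal.completion I M).map (homOfLE h).op)) p) = Set.range (Formal.toHHmodPow I M p n) := by
  obtain ⟨d, hd⟩ := range_trMap I hM hfin p
  refine ⟨d, fun n k h hk => ?_⟩
  have hpr : (Formal.completion I M).map (homOfLE h).op = filPr I M (Nat.succ_le_succ h) := by
    rw [← cancel_epi (Formal.modPowπ I (k + 1) M)]
    refine Eq.trans ?_ (modPowπ_filPr I M (Nat.succ_le_succ h)).symm
    clear hk
    induction k, h using Nat.le_induction with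
    | base =>
      rw [show (homOfLE (le_refl n)).op = 𝟙 _ from rfl, CategoryTheory.Functor.map_id]
      exact Category.comp_id _
    | succ k h ih =>
      rw [show (homOfLE (h.trans (Nat.le_succ k))).op = (homOfLE (Nat.le_succ k)).op ≫ (homOfLE h).op from
        Subsingleton.elim _ _, Functor.map_comp]
      rw [show (Formal.completion I M).map (homOfLE (Nat.le_succ k)).op = Formal.modPowTrans I (k + 1) M from
        Functor.ofOpSequence_map_homOfLE_succ _ k]
      rw [← Category.assoc, Formal.modPowπ_trans, ih]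
  rw [hpr]
  refine Set.ext fun y => ⟨?_, ?_⟩
  · rintro ⟨z, rfl⟩
    obtain ⟨v, hv⟩ : hMap φ₀ (filPr I M (Nat.succ_le_succ h)) p (hhEquiv _ p z) ∈ LinearMap.range (qMap I M p (n + 1)) :=
      hd (n + 1) (k + 1) (Nat.succ_le_succ h) (by omega) ▸ ⟨_, rfl⟩
    refine ⟨(hhEquiv M p).symm v, ?_⟩
    rw [toHHmodPow_eq]
    refine Eq.trans ?_ (hhMap_eq (A := A) (filPr I M (Nat.succ_le_succ h)) p z)
    refine congrArg (hhEquiv (A := A) _ p).symm ?_
    rw [LinearMap.comp_apply, LinearMap.comp_apply, LinearEquiv.coe_coe, LinearEquiv.apply_symm_apply]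
    exact hv
  · rintro ⟨x, rfl⟩
    refine ⟨Formal.toHHmodPow I M p k x, ?_⟩
    refine (Formal.HHmap_comp (Formal.modPowπ I (k + 1) M) _ p x).trans ?_
    rw [modPowπ_filPr]
    rfl

variable (I M) in
/-- The component maps out of the completion. -/
noncomputable def compMap (p n : ℕ) :
    (Coh.HH X M p ⧸ (I ^ (n + 1) • ⊤ : Submodule A (Coh.HH X M p))) →ₗ[A] Formal.HHmodPow I M p n :=
  Submodule.liftQ _ (hhMap (A := A) (Formal.modPowπ I (n + 1) M) p) fun x hx => by
    rw [LinearMap.mem_ker, ← toHHmodPow_eq]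
    exact pow_smul_le_ker_hh I M p n x hx

theorem compMap_mk (p n : ℕ) (x : Coh.HH X M p) :
    compMap I M p n (Submodule.Quotient.mk x) = Formal.toHHmodPow I M p n x := (toHHmodPow_eq I M p n x).symm

theorem trans_toHH (p n : ℕ) (x : Coh.HH X M p) :
    Formal.HHmodPowTrans I M p n (Formal.toHHmodPow I M p (n + 1) x) = Formal.toHHmodPow I M p n x :=
  (Formal.toHHlim I M p x).2 n

variable (I M) in
/-- The canonical map from the completion. -/
noncomputable def fromCompletion (p : ℕ) : AdicCompletion I (Coh.HH X M p) →+ Formal.HHlim I M p where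
  toFun x := ⟨fun n => compMap I M p n (x.val (n + 1)), fun n => by
    obtain ⟨h, hh⟩ := Submodule.Quotient.mk_surjective _ (x.val (n + 1 + 1))
    have : x.val (n + 1) = Submodule.Quotient.mk h := by
      rw [← x.2 (Nat.le_succ (n + 1)), ← hh]
      rfl
    change Formal.HHmodPowTrans I M p n (compMap I M p (n + 1) (x.val (n + 1 + 1))) = _
    refine (congrArg (fun z => Formal.HHmodPowTrans I M p n (compMap I M p (n + 1) z)) hh.symm).trans ?_
    refine Eq.trans ?_ (congrArg (compMap I M p n) this.symm)
    rw [compMap_mk, compMap_mk, trans_toHH]⟩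
  map_zero' := Subtype.ext (funext fun n => map_zero _)
  map_add' x y := Subtype.ext (funext fun n => map_add (compMap I M p n) _ _)

theorem fromCompletion_apply (p : ℕ) (x : AdicCompletion I (Coh.HH X M p)) (n : ℕ) (h : Coh.HH X M p)
    (hx : x.val (n + 1) = Submodule.Quotient.mk h) :
    (fromCompletion I M p x : ∀ n, Formal.HHmodPow I M p n) n = Formal.toHHmodPow I M p n h := by
  change compMap I M p n (x.val (n + 1)) = _
  rw [hx, compMap_mk]

theorem trans_iter (p : ℕ) (y : Formal.HHlim I M p) (n k : ℕ) (h : n ≤ k) :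
    Sheaf.H.map ((SheafOfModules.toSheaf X.ringCatSheaf).map ((Formal.completion I M).map (homOfLE h).op)) p
      ((y : ∀ n, Formal.HHmodPow I M p n) k) = (y : ∀ n, Formal.HHmodPow I M p n) n := by
  induction k, h using Nat.le_induction with
  | base =>
    rw [show (homOfLE (le_refl n)).op = 𝟙 _ from rfl, CategoryTheory.Functor.map_id, CategoryTheory.Functor.map_id,
      Sheaf.H.map_id_apply]
  | succ k h ih =>
    rw [show (homOfLE (h.trans (Nat.le_succ k))).op = (homOfLE (Nat.le_succ k)).op ≫ (homOfLE h).op from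
      Subsingleton.elim _ _, Functor.map_comp,
      show (Formal.completion I M).map (homOfLE (Nat.le_succ k)).op = Formal.modPowTrans I (k + 1) M from
        Functor.ofOpSequence_map_homOfLE_succ _ k]
    refine (Formal.HHmap_comp _ _ p _).symm.trans ?_
    refine Eq.trans (congrArg _ (y.2 k)) ih

include hM hfin in
theorem fromCompletion_bijective (p : ℕ) : Function.Bijective (fromCompletion I M p) := by
  obtain ⟨c, hc⟩ := exists_ker_le (I := I) hM hfin p
  refine ⟨(injective_iff_map_eq_zero _).2 fun x hx => ?_, fun y => ?_⟩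
  · refine Subtype.ext (funext fun n => ?_)
    obtain ⟨h, hh⟩ := Submodule.Quotient.mk_surjective _ (x.val (n + c + 1))
    have h0 : Formal.toHHmodPow I M p (n + c) h = 0 := by
      rw [← fromCompletion_apply p x (n + c) h hh.symm, hx]
      rfl
    have hle := hc (n + c) (Nat.le_add_left c n) h0
    rw [Nat.add_sub_cancel] at hle
    rw [← x.2 (show n ≤ n + c + 1 by omega), ← hh]
    exact (Submodule.Quotient.mk_eq_zero _).2 hle
  · obtain ⟨d, hd⟩ := exists_range_eq (I := I) hM hfin p
    have hrep : ∀ n, ∃ h, Formal.toHHmodPow I M p n h = (y : ∀ n, Formal.HHmodPow I M p n) n := fun n => by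
      rw [← Set.mem_range, ← hd n (n + d) (Nat.le_add_right n d) le_rfl, ← trans_iter p y n (n + d) (Nat.le_add_right n d)]
      exact ⟨_, rfl⟩
    choose g hg using hrep
    have hdiff : ∀ m k, m ≤ k → g k - g m ∈ (Formal.toHHmodPow I M p m).ker := by
      intro m k h
      induction k, h using Nat.le_induction with
      | base => rw [sub_self]; exact zero_mem _
      | succ k h ih =>
        have h1 : g (k + 1) - g k ∈ (Formal.toHHmodPow I M p m).ker := by
          rw [AddMonoidHom.mem_ker, map_sub, sub_eq_zero]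
          have e : Formal.toHHmodPow I M p k (g (k + 1)) = Formal.toHHmodPow I M p k (g k) := by
            rw [← trans_toHH p k (g (k + 1)), hg, hg]
            exact y.2 k
          have t : ∀ z, Sheaf.H.map ((SheafOfModules.toSheaf X.ringCatSheaf).map
              ((Formal.completion I M).map (homOfLE h).op)) p (Formal.toHHmodPow I M p k z) =
              Formal.toHHmodPow I M p m z := fun z => trans_iter p (Formal.toHHlim I M p z) m k h
          rw [← t, ← t (g k), e]
        have := add_mem h1 ih
        rwa [sub_add_sub_cancel] at this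
    refine ⟨⟨fun n => Submodule.Quotient.mk (g (n + c)), ?_⟩, Subtype.ext (funext fun n => ?_)⟩
    · intro m n hmn
      refine (Submodule.Quotient.eq _).2 ?_
      have := hc (m + c) (Nat.le_add_left c m) (hdiff (m + c) (n + c) (by omega))
      rwa [Nat.add_sub_cancel] at this
    · rw [fromCompletion_apply p _ n (g (n + 1 + c)) rfl, ← hg n, ← sub_eq_zero, ← map_sub]
      exact hdiff n (n + 1 + c) (by omega)

include hM hfin in
theorem toHHlim_bijective [IsAdicComplete I A] (p : ℕ) : Function.Bijective (Formal.toHHlim I M p) := by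
  have : Module.Finite A (Coh.HH X M p) := finite_HH_of_allFin (hfin M hM subset_rfl) p
  have h := (fromCompletion_bijective (I := I) hM hfin p).comp (bijective_of_finite I (Coh.HH X M p))
  have e : (fun x => fromCompletion I M p (AdicCompletion.of I _ x)) = Formal.toHHlim I M p :=
    funext fun x => Subtype.ext (funext fun n => fromCompletion_apply p _ n x rfl)
  exact e ▸ h

end Groth.Agent.FormalFun
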