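import Groth.Agent.FormalFun.GradedSheaf
import Groth.Prelude.Def_Formal

/-!
# The filtration of a coherent module by the powers of an ideal of the base

`fil I M n` is the kernel of `M ⟶ M/I^n M`, with the operators of multiplication by generators of `I`.
-/

set_option backward.isDefEq.respectTransparency false

universe u

open CategoryTheory CategoryTheory.Limits AlgebraicGeometry TopologicalSpace Opposite
open scoped Groth.Agent.CohVanish

namespace Groth.Agent.FormalFun

open Groth.Agent.QCohLib Groth.Agent.CohFinite Groth.Agent.CechCmp Groth.Agent.CohVanish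

variable {A : Type u} [CommRing A] {X : Scheme.{u}} [X.Over (Spec (CommRingCat.of A))]

theorem modHom_ext' {M N : X.Modules} {f g : M ⟶ N} (h : ∀ U s, f.app U s = g.app U s) : f = g :=
  SheafOfModules.Hom.ext (PresheafOfModules.hom_ext fun U => ModuleCat.hom_ext (LinearMap.ext fun s => h U.unop s))

/-- The scalars as functions on an open. -/
noncomputable def toSec (U : X.Opens) : A →+* Γ(X, U) :=
  (Coh.resTop X (op U)).comp (Coh.toGlobal (X ↘ Spec (CommRingCat.of A)))

theorem smulMod_app (M : X.Modules) (a : A) (U : X.Opens) (s : Γ(M, U)) :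
    (Formal.smulMod A M a).app U s =
      toSec U a • s := rfl

theorem smulMod_comp (M : X.Modules) (a b : A) :
    Formal.smulMod A M a ≫ Formal.smulMod A M b = Formal.smulMod A M (b * a) :=
  modHom_ext' fun U s => by
    change (Formal.smulMod A M b).app U ((Formal.smulMod A M a).app U s) = _
    rw [smulMod_app, smulMod_app, smulMod_app, smul_smul, map_mul]

theorem smulMod_add (M : X.Modules) (a b : A) :
    Formal.smulMod A M (a + b) = Formal.smulMod A M a + Formal.smulMod A M b :=
  modHom_ext' fun U s => by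
    change (Formal.smulMod A M (a + b)).app U s = (Formal.smulMod A M a).app U s + (Formal.smulMod A M b).app U s
    rw [smulMod_app, smulMod_app, smulMod_app, ← add_smul, ← map_add]

theorem smulMod_zero (M : X.Modules) : Formal.smulMod A M (0 : A) = 0 :=
  modHom_ext' fun U s => by
    rw [smulMod_app, map_zero, zero_smul]
    rfl

theorem smulMod_one (M : X.Modules) : Formal.smulMod A M (1 : A) = 𝟙 M :=
  modHom_ext' fun U s => by
    rw [smulMod_app, map_one, one_smul]
    rfl

theorem smulMod_natural {M N : X.Modules} (f : M ⟶ N) (a : A) :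
    Formal.smulMod A M a ≫ f = f ≫ Formal.smulMod A N a :=
  modHom_ext' fun U s => by
    change f.app U ((Formal.smulMod A M a).app U s) = (Formal.smulMod A N a).app U (f.app U s)
    rw [smulMod_app, smulMod_app, Scheme.Modules.Hom.app_smul]

variable (I : Ideal A) (M : X.Modules)

instance epi_modPowπ (n : ℕ) : Epi (Formal.modPowπ I n M) :=
  inferInstanceAs (Epi (cokernel.π (Formal.smulFamily (I ^ n) M)))

theorem smulMod_modPowπ (n : ℕ) {b : A} (hb : b ∈ I ^ n) :
    Formal.smulMod A M b ≫ Formal.modPowπ I n M = 0 := by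
  have h : Sigma.ι (fun _ : ↥(I ^ n) => M) ⟨b, hb⟩ ≫ Formal.smulFamily (I ^ n) M = Formal.smulMod A M b :=
    Sigma.ι_desc _ _
  rw [← h, Category.assoc, Formal.modPowπ, cokernel.condition, comp_zero]

theorem killed_modPow (n : ℕ) {b : A} (hb : b ∈ I ^ n) : Formal.smulMod A (Formal.modPow I n M) b = 0 := by
  rw [← cancel_epi (Formal.modPowπ I n M), ← smulMod_natural, smulMod_modPowπ I M n hb, comp_zero]

/-- The kernel of `M ⟶ M/I^n M`. -/
noncomputable abbrev fil (n : ℕ) : X.Modules := kernel (Formal.modPowπ I n M)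

/-- The inclusion into `M`. -/
noncomputable abbrev filι (n : ℕ) : fil I M n ⟶ M := kernel.ι _

theorem shortExact_fil (n : ℕ) : (ShortComplex.mk (filι I M n) (Formal.modPowπ I n M)
    (kernel.condition _)).ShortExact :=
  { exact := ShortComplex.exact_kernel _ }

/-- The transition maps of the quotients. -/
noncomputable def filPr {m n : ℕ} (h : m ≤ n) : Formal.modPow I n M ⟶ Formal.modPow I m M :=
  cokernel.desc _ (Formal.modPowπ I m M) (Formal.smulFamily_π_of_le (Ideal.pow_le_pow_right h) M)

@[reassoc]
theorem modPowπ_filPr {m n : ℕ} (h : m ≤ n) :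
    Formal.modPowπ I n M ≫ filPr I M h = Formal.modPowπ I m M :=
  cokernel.π_desc _ _ _

/-- The inclusions of the filtration. -/
noncomputable def filIncl {m n : ℕ} (h : m ≤ n) : fil I M n ⟶ fil I M m :=
  kernel.lift _ (filι I M n) (by rw [← modPowπ_filPr I M h, kernel.condition_assoc, zero_comp])

@[reassoc]
theorem filIncl_ι {m n : ℕ} (h : m ≤ n) : filIncl I M h ≫ filι I M m = filι I M n :=
  kernel.lift_ι _ _ _

theorem smulMod_filι_modPowπ {a : A} (ha : a ∈ I) (n : ℕ) :
    (filι I M n ≫ Formal.smulMod A M a) ≫ Formal.modPowπ I (n + 1) M = 0 := by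
  have h : Formal.smulFamily (I ^ n) M ≫ (Formal.smulMod A M a ≫ Formal.modPowπ I (n + 1) M) = 0 := by
    refine Sigma.hom_ext _ _ fun b => ?_
    rw [comp_zero, Formal.smulFamily, Sigma.ι_desc_assoc, ← Category.assoc, smulMod_comp]
    exact smulMod_modPowπ I M (n + 1) (pow_succ' I n ▸ Ideal.mul_mem_mul ha b.2)
  rw [Category.assoc, ← cokernel.π_desc (Formal.smulFamily (I ^ n) M) _ h, ← Category.assoc]
  change (filι I M n ≫ Formal.modPowπ I n M) ≫ _ = 0
  rw [kernel.condition, zero_comp]

/-- Multiplication by an element of `I`. -/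
noncomputable def filMul (a : I) (n : ℕ) : fil I M n ⟶ fil I M (n + 1) :=
  kernel.lift _ (filι I M n ≫ Formal.smulMod A M (a : A)) (smulMod_filι_modPowπ I M a.2 n)

@[reassoc]
theorem filMul_ι (a : I) (n : ℕ) :
    filMul I M a n ≫ filι I M (n + 1) = filι I M n ≫ Formal.smulMod A M (a : A) :=
  kernel.lift_ι _ _ _

theorem filMul_comm (a b : I) (n : ℕ) :
    filMul I M a n ≫ filMul I M b (n + 1) = filMul I M b n ≫ filMul I M a (n + 1) := by
  rw [← cancel_mono (filι I M (n + 1 + 1)), Category.assoc, Category.assoc, filMul_ι, filMul_ι,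
    filMul_ι_assoc, filMul_ι_assoc, smulMod_comp, smulMod_comp, mul_comm]

theorem filMul_incl (a : I) {m n : ℕ} (h : m ≤ n) :
    filMul I M a n ≫ filIncl I M (h.trans (Nat.le_succ n)) =
      filIncl I M h ≫ Formal.smulMod A (fil I M m) (a : A) := by
  rw [← cancel_mono (filι I M m), Category.assoc, Category.assoc, filIncl_ι, filMul_ι, smulMod_natural,
    filIncl_ι_assoc]

variable {I M} {r : ℕ} (a : Fin r → I) (ha : Ideal.span (Set.range fun k => (a k : A)) = I)

include ha in
/-- `I^(n+1)M` is generated by the products of the generators with `I^n M`. -/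
theorem jointlyEpi_filMul (n : ℕ) (Z : X.Modules) (g : fil I M (n + 1) ⟶ Z)
    (hg : ∀ k, filMul I M (a k) n ≫ g = 0) : g = 0 := by
  have := Abelian.hasFiniteBiproducts (C := X.Modules)
  let D : (⨁ fun _ : Fin r => fil I M n) ⟶ M :=
    biproduct.desc fun k => filι I M n ≫ Formal.smulMod A M (a k : A)
  let D' : (⨁ fun _ : Fin r => fil I M n) ⟶ fil I M (n + 1) := biproduct.desc fun k => filMul I M (a k) n
  have hD : D' ≫ filι I M (n + 1) = D := biproduct.hom_ext' _ _ fun k => by
    rw [biproduct.ι_desc, biproduct.ι_desc_assoc, filMul_ι]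
  have hq : ∀ b ∈ I ^ (n + 1), Formal.smulMod A M b ≫ cokernel.π D = 0 := by
    intro b hb
    rw [pow_succ] at hb
    refine Submodule.mul_induction_on hb (fun c hc d hd => ?_) (fun x y hx hy => ?_)
    · rw [← ha] at hd
      induction hd using Submodule.span_induction with
      | mem z hz =>
        obtain ⟨k, rfl⟩ := hz
        let l := kernel.lift _ (Formal.smulMod A M c) (smulMod_modPowπ I M n hc)
        change Formal.smulMod A M (c * (a k : A)) ≫ cokernel.π D = 0
        rw [mul_comm, ← smulMod_comp, ← kernel.lift_ι _ (Formal.smulMod A M c) (smulMod_modPowπ I M n hc),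
          Category.assoc, Category.assoc]
        refine (congrArg (l ≫ ·) ?_).trans comp_zero
        have h1 : (biproduct.ι (fun _ : Fin r => fil I M n) k ≫ D) ≫ cokernel.π D = 0 := by
          rw [Category.assoc, cokernel.condition, comp_zero]
        rw [biproduct.ι_desc, Category.assoc] at h1
        exact h1
      | zero => rw [mul_zero, smulMod_zero, zero_comp]
      | add y z _ _ hy hz => rw [mul_add, smulMod_add, Preadditive.add_comp, hy, hz, add_zero]
      | smul s y _ hy =>
        rw [smul_eq_mul, show c * (s * y) = (c * y) * s by ring, ← smulMod_comp, Category.assoc, hy, comp_zero]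
    · rw [smulMod_add, Preadditive.add_comp, hx, hy, add_zero]
  have hι : filι I M (n + 1) ≫ cokernel.π D = 0 := by
    have h : Formal.smulFamily (I ^ (n + 1)) M ≫ cokernel.π D = 0 := Sigma.hom_ext _ _ fun b => by
      rw [comp_zero, Formal.smulFamily, Sigma.ι_desc_assoc, hq _ b.2]
    rw [← cokernel.π_desc (Formal.smulFamily (I ^ (n + 1)) M) _ h, ← Category.assoc]
    change (filι I M (n + 1) ≫ Formal.modPowπ I (n + 1) M) ≫ _ = 0
    rw [kernel.condition, zero_comp]
  let j : fil I M (n + 1) ⟶ Abelian.image D := kernel.lift _ (filι I M (n + 1)) hι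
  have : Mono j := mono_of_mono_fac (kernel.lift_ι _ _ hι : j ≫ Abelian.image.ι D = filι I M (n + 1))
  have h2 : D' ≫ j = Abelian.factorThruImage D := by
    rw [← cancel_mono (Abelian.image.ι D), Category.assoc, kernel.lift_ι, hD, Abelian.image.fac]
  have : Epi (D' ≫ j) := by rw [h2]; infer_instance
  have : Epi j := epi_of_epi D' j
  have : IsIso j := isIso_of_mono_of_epi j
  have : Epi D' := by
    have : D' = (D' ≫ j) ≫ inv j := by rw [Category.assoc, IsIso.hom_inv_id, Category.comp_id]
    rw [this]
    infer_instance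
  rw [← cancel_epi D', comp_zero]
  exact biproduct.hom_ext' _ _ fun k => by rw [biproduct.ι_desc_assoc, hg, comp_zero]

theorem isIso_filι_zero : IsIso (filι I M 0) := by
  have h : Formal.modPowπ I 0 M = 0 := by
    have := smulMod_modPowπ I M 0 (b := 1) (by simp)
    rwa [smulMod_one, Category.id_comp] at this
  have : Epi (filι I M 0) := by
    have hl : kernel.lift (Formal.modPowπ I 0 M) (𝟙 M) (by rw [h, comp_zero]) ≫ filι I M 0 = 𝟙 M :=
      kernel.lift_ι _ _ _
    exact ⟨fun f g e => by rw [← Category.id_comp f, ← Category.id_comp g, ← hl, Category.assoc, Category.assoc, e]⟩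
  exact isIso_of_mono_of_epi _

theorem image_iso_of_epi_mono {P Q R : X.Modules} (e : P ⟶ Q) (i : Q ⟶ R) (d : P ⟶ R) (h : e ≫ i = d)
    [Epi e] [Mono i] : Nonempty (Abelian.image d ≅ Q) := by
  let l : Q ⟶ Abelian.image d := kernel.lift (cokernel.π d) i
    (by rw [← cancel_epi e, ← Category.assoc, h, cokernel.condition, comp_zero])
  have hl : l ≫ Abelian.image.ι d = i := kernel.lift_ι _ _ _
  have : Mono l := mono_of_mono_fac hl
  have he : e ≫ l = Abelian.factorThruImage d := by
    rw [← cancel_mono (Abelian.image.ι d), Category.assoc, hl, Abelian.image.fac, h]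
  have : Epi (e ≫ l) := by rw [he]; infer_instance
  have : Epi l := epi_of_epi e l
  have : IsIso l := isIso_of_mono_of_epi l
  exact ⟨(asIso l).symm⟩

include ha in
theorem isCoh_fil [IsLocallyNoetherian X] (hM : Coh.IsCoh M) : ∀ n, Coh.IsCoh (fil I M n)
  | 0 => by
    have := isIso_filι_zero (I := I) (M := M)
    exact isCoh_of_iso (asIso (filι I M 0)).symm hM
  | n + 1 => by
    have := Abelian.hasFiniteBiproducts (C := X.Modules)
    let D : (⨁ fun _ : Fin r => fil I M n) ⟶ M :=
      biproduct.desc fun k => filι I M n ≫ Formal.smulMod A M (a k : A)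
    let D' : (⨁ fun _ : Fin r => fil I M n) ⟶ fil I M (n + 1) := biproduct.desc fun k => filMul I M (a k) n
    have hD : D' ≫ filι I M (n + 1) = D := biproduct.hom_ext' _ _ fun k => by
      rw [biproduct.ι_desc, biproduct.ι_desc_assoc, filMul_ι]
    have : Epi D' := Preadditive.epi_of_cancel_zero _ fun {Z} g hg => jointlyEpi_filMul a ha n Z g fun k => by
      rw [← biproduct.ι_desc (fun k => filMul I M (a k) n) k, Category.assoc, hg, comp_zero]
    have hb := isCoh_biproduct (isCoh_fil hM n) r
    exact isCoh_of_iso (image_iso_of_epi_mono D' (filι I M (n + 1)) D hD).some (isCoh_image D hb.1 hM)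

include ha in
theorem isCoh_modPow [IsLocallyNoetherian X] (hM : Coh.IsCoh M) (n : ℕ) : Coh.IsCoh (Formal.modPow I n M) := by
  have hc := isCoh_cokernel (filι I M n) (isCoh_fil a ha hM n).1 hM
  exact isCoh_of_iso ((cokernelIsCokernel (filι I M n)).coconePointUniqueUpToIso
    (shortExact_fil I M n).gIsCokernel) hc

end Groth.Agent.FormalFun
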