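import Mathlib.Algebra.DirectSum.Module
import Mathlib.Algebra.MvPolynomial.Eval
import Mathlib.RingTheory.Polynomial.Basic
import Mathlib.RingTheory.Finiteness.Basic

/-!
# Graded modules with operators of degree one

`Stable t`: from some degree on, every element is a combination of images of the operators.
`stable_sub`: a subfamily of a stable family of Noetherian modules is stable (Hilbert basis).
`stable_of_exact`: stability from the two sequences cut out by the last operator.
-/

universe u v

open DirectSum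

namespace Groth.Agent.FormalFun

variable {R : Type u} [CommRing R] {r : ℕ} {M : ℕ → Type v} [∀ n, AddCommGroup (M n)]
  [∀ n, Module R (M n)] (t : Fin r → ∀ n, M n →ₗ[R] M (n + 1))

/-- From some degree on, everything comes from the degree below. -/
def Stable : Prop := ∃ c, ∀ n, c ≤ n → ∀ y : M (n + 1), ∃ z : Fin r → M n, y = ∑ k, t k n (z k)

/-- Stability of a subfamily. -/
def StableSub (L : ∀ n, Submodule R (M n)) : Prop :=
  ∃ c, ∀ n, c ≤ n → ∀ y ∈ L (n + 1), ∃ z : Fin r → M n, (∀ k, z k ∈ L n) ∧ y = ∑ k, t k n (z k)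

/-- The operator on the direct sum. -/
noncomputable def opE (k : Fin r) : Module.End R (⨁ n, M n) :=
  toModule R ℕ _ fun n => lof R ℕ M (n + 1) ∘ₗ t k n

theorem opE_lof (k : Fin r) (n : ℕ) (x : M n) :
    opE t k (lof R ℕ M n x) = lof R ℕ M (n + 1) (t k n x) := by
  rw [opE, toModule_lof]; rfl

theorem component_opE_succ (k : Fin r) (m : ℕ) (e : ⨁ n, M n) :
    component R ℕ M (m + 1) (opE t k e) = t k m (component R ℕ M m e) := by
  induction e using DirectSum.induction_on with
  | zero => simp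
  | of n x =>
    rw [← lof_eq_of R, opE_lof]
    by_cases h : n = m
    · subst h; rw [component.lof_self, component.lof_self]
    · rw [component.of, component.of, dif_neg (by omega), dif_neg h, map_zero]
  | add x y hx hy => rw [map_add, map_add, hx, hy, map_add, map_add]

theorem component_opE_zero (k : Fin r) (e : ⨁ n, M n) : component R ℕ M 0 (opE t k e) = 0 := by
  induction e using DirectSum.induction_on with
  | zero => simp
  | of n x => rw [← lof_eq_of R, opE_lof, component.of, dif_neg (by omega)]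
  | add x y hx hy => rw [map_add, map_add, hx, hy, add_zero]

theorem opE_comm (hc : ∀ j k n x, t j (n + 1) (t k n x) = t k (n + 1) (t j n x)) (j k : Fin r) :
    opE t j * opE t k = opE t k * opE t j := by
  refine DirectSum.linearMap_ext R fun n => LinearMap.ext fun x => ?_
  simp only [LinearMap.comp_apply, Module.End.mul_apply, opE_lof, hc]

variable (hc : ∀ j k n x, t j (n + 1) (t k n x) = t k (n + 1) (t j n x))

open scoped IsMulCommutative in
/-- The action of polynomials. -/
noncomputable def polyAct : MvPolynomial (Fin r) R →+* Module.End R (⨁ n, M n) :=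
  letI : IsMulCommutative (Algebra.adjoin R (Set.range (opE t))) :=
    Algebra.isMulCommutative_adjoin R (by rintro _ ⟨j, rfl⟩ _ ⟨k, rfl⟩; exact opE_comm t hc j k)
  (Algebra.adjoin R (Set.range (opE t))).val.toRingHom.comp
    (MvPolynomial.aeval fun k => (⟨opE t k, Algebra.subset_adjoin ⟨k, rfl⟩⟩ :
      Algebra.adjoin R (Set.range (opE t)))).toRingHom

theorem polyAct_C (a : R) (e : ⨁ n, M n) : polyAct t hc (MvPolynomial.C a) e = a • e := by
  simp [polyAct]

theorem polyAct_X (k : Fin r) : polyAct t hc (MvPolynomial.X k) = opE t k := by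
  simp [polyAct]

/-- The largest invariant family generated in degrees `≤ c` by `L`. -/
def genFam (L : ∀ n, Submodule R (M n)) (c : ℕ) : ∀ n, Submodule R (M n)
  | 0 => L 0
  | n + 1 => if n + 1 ≤ c then L (n + 1) else ⨆ k, (genFam L c n).map (t k n)

theorem genFam_le {L : ∀ n, Submodule R (M n)} (hL : ∀ k n x, x ∈ L n → t k n x ∈ L (n + 1)) (c : ℕ) :
    ∀ n, genFam t L c n ≤ L n
  | 0 => le_rfl
  | n + 1 => by
    rw [genFam]
    split_ifs
    · exact le_rfl
    · exact iSup_le fun k => (Submodule.map_mono (genFam_le hL c n)).trans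
        (Submodule.map_le_iff_le_comap.2 fun x hx => hL k n x hx)

theorem genFam_inv {L : ∀ n, Submodule R (M n)} (hL : ∀ k n x, x ∈ L n → t k n x ∈ L (n + 1)) (c : ℕ)
    (k : Fin r) (n : ℕ) (x : M n) (hx : x ∈ genFam t L c n) : t k n x ∈ genFam t L c (n + 1) := by
  rw [genFam]
  split_ifs
  · exact hL k n x (genFam_le t hL c n hx)
  · exact Submodule.mem_iSup_of_mem k ⟨x, hx, rfl⟩

theorem genFam_eq_of_le (L : ∀ n, Submodule R (M n)) (c : ℕ) :
    ∀ n, n ≤ c → genFam t L c n = L n
  | 0, _ => rfl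
  | n + 1, h => by rw [genFam, if_pos h]

include hc in
/-- A subfamily of a stable family of Noetherian modules is stable. -/
theorem stable_sub [IsNoetherianRing R] [∀ n, IsNoetherian R (M n)] (hst : Stable t)
    (L : ∀ n, Submodule R (M n)) (hL : ∀ k n x, x ∈ L n → t k n x ∈ L (n + 1)) : StableSub t L := by
  classical
  obtain ⟨c, hgen⟩ := hst
  letI : Module (MvPolynomial (Fin r) R) (⨁ n, M n) := Module.compHom _ (polyAct t hc)
  have hX : ∀ (k : Fin r) (e : ⨁ n, M n), (MvPolynomial.X k : MvPolynomial (Fin r) R) • e = opE t k e :=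
    fun k e => by change polyAct t hc (MvPolynomial.X k) e = _; rw [polyAct_X]
  have hC : ∀ (a : R) (e : ⨁ n, M n), (MvPolynomial.C a : MvPolynomial (Fin r) R) • e = a • e :=
    fun a e => polyAct_C t hc a e
  -- the direct sum is finite over polynomials
  choose s hs using fun n => (IsNoetherian.noetherian (⊤ : Submodule R (M n)))
  let P0 : Submodule (MvPolynomial (Fin r) R) (⨁ n, M n) :=
    Submodule.span _ (⋃ n ∈ Finset.range (c + 1), lof R ℕ M n '' (s n : Set (M n)))
  have hlof : ∀ n x, lof R ℕ M n x ∈ P0 := by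
    intro n
    induction n using Nat.strong_induction_on with
    | _ n ih =>
      by_cases h : n ≤ c
      · intro x
        have hx : x ∈ Submodule.span R (s n : Set (M n)) := by rw [hs]; trivial
        induction hx using Submodule.span_induction with
        | mem y hy => exact Submodule.subset_span (Set.mem_biUnion (Finset.mem_range.2 (by omega)) ⟨y, hy, rfl⟩)
        | zero => simp
        | add y z _ _ hy hz => rw [map_add]; exact add_mem hy hz
        | smul a y _ hy => rw [map_smul, ← hC]; exact P0.smul_mem _ hy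
      · obtain ⟨m, rfl⟩ : ∃ m, n = m + 1 := ⟨n - 1, by omega⟩
        intro x
        obtain ⟨z, rfl⟩ := hgen m (by omega) x
        rw [map_sum]
        refine sum_mem fun k _ => ?_
        rw [← opE_lof, ← hX]
        exact P0.smul_mem _ (ih m (by omega) (z k))
  have hP0 : P0 = ⊤ := top_le_iff.1 fun e _ => by
    induction e using DirectSum.induction_on with
    | zero => exact zero_mem _
    | of n x => rw [← lof_eq_of R]; exact hlof n x
    | add x y hx hy => exact add_mem (hx trivial) (hy trivial)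
  have : Module.Finite (MvPolynomial (Fin r) R) (⨁ n, M n) := by
    refine ⟨hP0 ▸ Submodule.fg_span ?_⟩
    exact Set.Finite.biUnion (Finset.finite_toSet _) fun n _ => (s n).finite_toSet.image _
  have hN : IsNoetherian (MvPolynomial (Fin r) R) (⨁ n, M n) :=
    isNoetherian_of_isNoetherianRing_of_finite _ _
  -- the chain generated by `L` stabilises
  let Lc : ℕ →o Submodule (MvPolynomial (Fin r) R) (⨁ n, M n) :=
    ⟨fun b => Submodule.span _ (⋃ n ∈ Finset.range (b + 1), lof R ℕ M n '' (L n : Set (M n))),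
      fun a b hab => Submodule.span_mono (Set.biUnion_subset_biUnion_left fun n hn => by
        simp only [Finset.coe_range, Set.mem_Iio] at hn ⊢; omega)⟩
  obtain ⟨c₀, hc₀⟩ := monotone_stabilizes_iff_noetherian.2 hN Lc
  let G : Submodule (MvPolynomial (Fin r) R) (⨁ n, M n) :=
    { carrier := {e | ∀ m, component R ℕ M m e ∈ genFam t L c₀ m}
      add_mem' := fun {x y} hx hy m => by rw [map_add]; exact add_mem (hx m) (hy m)
      zero_mem' := fun m => by rw [map_zero]; exact zero_mem _
      smul_mem' := fun p e he => by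
        induction p using MvPolynomial.induction_on generalizing e with
        | C a => intro m; rw [hC, map_smul]; exact Submodule.smul_mem _ a (he m)
        | add p q hp hq => intro m; rw [add_smul, map_add]; exact add_mem (hp e he m) (hq e he m)
        | mul_X p k hp =>
          rw [mul_smul, hX]
          refine hp _ fun m => ?_
          cases m with
          | zero => rw [component_opE_zero]; exact zero_mem _
          | succ m => rw [component_opE_succ]; exact genFam_inv t hL c₀ k m _ (he m) }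
  have hG : Lc c₀ ≤ G := Submodule.span_le.2 fun e he => by
    obtain ⟨n, hn, x, hx, rfl⟩ := by simpa only [Set.mem_iUnion, exists_prop] using he
    intro m
    rw [component.of]
    split_ifs with h
    · subst h
      have hn' : n ≤ c₀ := Nat.lt_succ_iff.1 (Finset.mem_range.1 hn)
      rw [genFam_eq_of_le t L c₀ n hn']
      exact hx
    · exact zero_mem _
  refine ⟨c₀, fun n hn y hy => ?_⟩
  have hy' : lof R ℕ M (n + 1) y ∈ Lc c₀ := by
    rw [hc₀ (n + 1) (by omega)]
    exact Submodule.subset_span (Set.mem_biUnion (Finset.mem_range.2 (by omega)) ⟨y, hy, rfl⟩)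
  have h1 := hG hy' (n + 1)
  rw [component.lof_self, genFam, if_neg (by omega)] at h1
  obtain ⟨z, hz⟩ := (Submodule.mem_iSup_finset_iff_exists_sum (s := Finset.univ) _ _).1
    (by simpa using h1 : y ∈ ⨆ k ∈ (Finset.univ : Finset (Fin r)), (genFam t L c₀ n).map (t k n))
  choose w hw hw' using fun k => (z k).2
  exact ⟨w, fun k => genFam_le t hL c₀ n (hw k), hz.symm.trans (Finset.sum_congr rfl fun k _ => (hw' k).symm)⟩

theorem stableSub_mono {L : ∀ n, Submodule R (M n)} (h : StableSub t L) :
    ∃ c, ∀ c', c ≤ c' → ∀ n, c' ≤ n → ∀ y ∈ L (n + 1), ∃ z : Fin r → M n, (∀ k, z k ∈ L n) ∧ y = ∑ k, t k n (z k) :=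
  let ⟨c, hc⟩ := h; ⟨c, fun _ h' n hn => hc n (h'.trans hn)⟩

section Exact

variable {G I Cq Kd : ℕ → Type v} [∀ n, AddCommGroup (G n)] [∀ n, Module R (G n)]
  [∀ n, AddCommGroup (I n)] [∀ n, Module R (I n)] [∀ n, AddCommGroup (Cq n)] [∀ n, Module R (Cq n)]
  [∀ n, AddCommGroup (Kd n)] [∀ n, Module R (Kd n)]

/-- Stability from the two sequences cut out by the last operator. -/
theorem stable_of_exact [IsNoetherianRing R] [∀ n, IsNoetherian R (Cq n)] [∀ n, IsNoetherian R (Kd n)]
    (tG : Fin (r + 1) → ∀ n, G n →ₗ[R] G (n + 1)) (tI : Fin r → ∀ n, I n →ₗ[R] I (n + 1))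
    (tC : Fin r → ∀ n, Cq n →ₗ[R] Cq (n + 1)) (tK : Fin r → ∀ n, Kd n →ₗ[R] Kd (n + 1))
    (hcC : ∀ j k n x, tC j (n + 1) (tC k n x) = tC k (n + 1) (tC j n x))
    (hcK : ∀ j k n x, tK j (n + 1) (tK k n x) = tK k (n + 1) (tK j n x))
    (hC : Stable tC) (hK : Stable tK)
    (α : ∀ n, G n →ₗ[R] I n) (δ : ∀ n, I n →ₗ[R] Kd n) (ι : ∀ n, I n →ₗ[R] G (n + 1))
    (β : ∀ n, G (n + 1) →ₗ[R] Cq (n + 1))
    (hαδ : ∀ n w, δ n w = 0 → ∃ v, α n v = w) (hιβ : ∀ n y, β n y = 0 → ∃ w, ι n w = y)
    (hT : ∀ n v, tG (Fin.last r) n v = ι n (α n v))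
    (hδt : ∀ k n w, δ (n + 1) (tI k n w) = tK k n (δ n w))
    (hιt : ∀ k n w, ι (n + 1) (tI k n w) = tG k.castSucc (n + 1) (ι n w))
    (hβt : ∀ k n y, β (n + 1) (tG k.castSucc (n + 1) y) = tC k (n + 1) (β n y)) :
    Stable tG := by
  let J : ∀ n, Submodule R (Cq n)
    | 0 => ⊥
    | n + 1 => LinearMap.range (β n)
  obtain ⟨c₁, h₁⟩ := stable_sub tC hcC hC J (fun k n x hx => by
    cases n with
    | zero =>
      have hx0 : x = 0 := (Submodule.mem_bot R).1 hx
      rw [hx0, map_zero]
      exact zero_mem _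
    | succ n =>
      obtain ⟨y, rfl⟩ := hx
      exact ⟨_, hβt k n y⟩)
  obtain ⟨c₂, h₂⟩ := stable_sub tK hcK hK (fun n => LinearMap.range (δ n)) (fun k n x hx => by
    obtain ⟨y, rfl⟩ := hx
    exact ⟨_, hδt k n y⟩)
  refine ⟨c₁ + c₂ + 1, fun n hn y => ?_⟩
  obtain ⟨n, rfl⟩ : ∃ m, n = m + 1 := ⟨n - 1, by omega⟩
  obtain ⟨z, hz, hyz⟩ := h₁ (n + 1) (by omega) (β (n + 1) y) ⟨y, rfl⟩
  choose z' hz' using fun k => (hz k : z k ∈ LinearMap.range (β n))
  obtain ⟨w, hw⟩ := hιβ (n + 1) (y - ∑ k, tG k.castSucc (n + 1) (z' k)) (by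
    simp only [map_sub, map_sum, hβt, hz', hyz, sub_self])
  obtain ⟨q, hq, hwq⟩ := h₂ n (by omega) (δ (n + 1) w) ⟨w, rfl⟩
  choose q' hq' using hq
  obtain ⟨v, hv⟩ := hαδ (n + 1) (w - ∑ k, tI k n (q' k)) (by
    simp only [map_sub, map_sum, hδt, hq', hwq, sub_self])
  refine ⟨Fin.snoc (α := fun _ => G (n + 1)) (fun k => z' k + ι n (q' k)) v, ?_⟩
  rw [Fin.sum_univ_castSucc]
  simp only [Fin.snoc_castSucc, Fin.snoc_last, map_add, Finset.sum_add_distrib, hT]
  rw [show ∑ k : Fin r, tG k.castSucc (n + 1) (ι n (q' k)) = ι (n + 1) (∑ k, tI k n (q' k)) by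
    simp only [map_sum, hιt]]
  rw [hv, map_sub, hw]
  abel

end Exact

end Groth.Agent.FormalFun
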