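import Groth.Agent.FormalFun.GradedMod
import Groth.Agent.CohFinite.HHFinite
import Groth.Agent.CohFinite.DevissageGen

/-!
# Cohomology of stable graded systems of coherent modules is stable

A graded system is a sequence of modules with commuting operators of degree one; it is stable when
the operators are jointly epimorphic from some degree on. If coherent modules with support in `C` have
finite cohomology, the cohomology of a stable system of such modules is stable.
-/

set_option backward.isDefEq.respectTransparency false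

universe u

open CategoryTheory CategoryTheory.Limits AlgebraicGeometry TopologicalSpace Opposite
open scoped Groth.Agent.CohVanish

namespace Groth.Agent.FormalFun

open Groth.Agent.QCohLib Groth.Agent.CohFinite Groth.Agent.CechCmp Groth.Agent.CohVanish

variable {X : Scheme.{u}}

/-- Jointly epimorphic from some degree on. -/
def JEpi {r : ℕ} {N : ℕ → X.Modules} (t : Fin r → ∀ n, N n ⟶ N (n + 1)) : Prop :=
  ∃ c, ∀ n, c ≤ n → ∀ (Z : X.Modules) (g : N (n + 1) ⟶ Z), (∀ k, t k n ≫ g = 0) → g = 0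

theorem sum_app {M N : X.Modules} {α : Type*} (s : Finset α) (φ : α → (M ⟶ N)) (U : X.Opens)
    (x : Γ(M, U)) : (∑ a ∈ s, φ a).app U x = ∑ a ∈ s, (φ a).app U x := by
  classical
  induction s using Finset.induction with
  | empty => simp
  | insert a s ha ih =>
    rw [Finset.sum_insert ha, Finset.sum_insert ha, ← ih]
    rfl

/-- Surjectivity on the sections over an affine open. -/
theorem sections_of_jointlyEpi [IsLocallyNoetherian X] {r : ℕ} {M N : X.Modules} (hM : Coh.IsCoh M)
    (hN : Coh.IsCoh N) (t : Fin r → (M ⟶ N))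
    (h : ∀ (Z : X.Modules) (g : N ⟶ Z), (∀ k, t k ≫ g = 0) → g = 0) {U : X.Opens} (hU : IsAffineOpen U)
    (y : Γ(N, U)) : ∃ z : Fin r → Γ(M, U), y = ∑ k, (t k).app U (z k) := by
  have := Abelian.hasFiniteBiproducts (C := X.Modules)
  let d := biproduct.desc (f := fun _ : Fin r => M) t
  have hepi : Epi d := Preadditive.epi_of_cancel_zero _ fun {Z} g hg => h Z g fun k => by
    rw [← biproduct.ι_desc (f := fun _ : Fin r => M) t k, Category.assoc, hg, comp_zero]
  let S := ShortComplex.mk (kernel.ι d) d (kernel.condition d)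
  have hS : S.ShortExact := { exact := ShortComplex.exact_kernel d }
  have := (isCoh_biproduct hM r).1
  have := hN.1
  have : S.X₁.IsQuasicoherent := isQuasicoherent_kernel d
  obtain ⟨x, rfl⟩ := app_surjective_of_shortExact hS hU y
  refine ⟨fun k => (biproduct.π (fun _ : Fin r => M) k).app U x, ?_⟩
  have e : d = ∑ k, biproduct.π (fun _ : Fin r => M) k ≫ t k := by
    refine biproduct.hom_ext' _ _ fun k => ?_
    rw [biproduct.ι_desc, Preadditive.comp_sum, Finset.sum_eq_single k]
    · rw [biproduct.ι_π_self_assoc]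
    · intro j _ hj
      rw [biproduct.ι_π_ne_assoc _ hj.symm, zero_comp]
    · simp
  change d.app U x = _
  rw [e, sum_app]
  rfl

/-- Detection of zero morphisms on a cover by affine opens. -/
theorem eq_zero_of_sections {P Z : X.Modules} [P.IsQuasicoherent] {α : Type*} (U : α → X.Opens)
    (hU : ∀ i, IsAffineOpen (U i)) (hcov : ∀ x : X, ∃ i, x ∈ U i) (g : P ⟶ Z)
    (h : ∀ i s, g.app (U i) s = 0) : g = 0 := by
  have : Epi (kernel.ι g) := by
    refine (epi_iff_stalk_surjective _).2 fun x m => ?_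
    obtain ⟨i, hx⟩ := hcov x
    let := germModule P x hx
    obtain ⟨⟨s, f⟩, hfs⟩ := (isLocalizedModule_germ (M := P) (hU i) x hx).2 m
    have hu : IsUnit (X.presheaf.germ (U i) x hx f.1) :=
      (X.mem_basicOpen f.1 x hx).mp ((mem_basicOpen_iff_notMem_primeIdealOf (hU i) hx f.1).mpr f.2)
    have hfs' : X.presheaf.germ (U i) x hx f.1 • m = P.presheaf.germ (U i) x hx s := hfs
    obtain ⟨c, hc⟩ := (exists_kernel_app_eq g (U i) s).1 (h i s)
    obtain ⟨v, hv⟩ := hu
    refine ⟨(↑v⁻¹ : X.presheaf.stalk x) • (kernel g).presheaf.germ (U i) x hx c, ?_⟩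
    rw [stalkHom_smul, stalkHom_germ, hc, ← hfs', ← hv, smul_smul, Units.inv_mul, one_smul]
  rw [← cancel_epi (kernel.ι g), kernel.condition, comp_zero]

section

variable {A : Type u} [CommRing A] (φ : A →+* Coh.Γtop X)

/-- The map on cohomology. -/
noncomputable abbrev hMap {M N : X.Modules} (f : M ⟶ N) (p : ℕ) :
    HMod (modRSh φ M) ⊤ p →ₗ[A] HMod (modRSh φ N) ⊤ p :=
  mapHMod (CohFinite.modHom φ f) ⊤ p

theorem hMap_comp {M N P : X.Modules} (f : M ⟶ N) (g : N ⟶ P) (p : ℕ) (x : HMod (modRSh φ M) ⊤ p) :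
    hMap φ (f ≫ g) p x = hMap φ g p (hMap φ f p x) :=
  ((congrArg (fun a => eMap a ⊤ p x) ((toAbF X).map_comp f g)).trans (eMap_comp _ _ ⊤ p x) :)

theorem hMap_id {M : X.Modules} (p : ℕ) (x : HMod (modRSh φ M) ⊤ p) : hMap φ (𝟙 M) p x = x :=
  ((congrArg (fun a => eMap a ⊤ p x) ((toAbF X).map_id M)).trans (eMap_id ⊤ p x) :)

theorem hMap_zero {M N : X.Modules} (p : ℕ) (x : HMod (modRSh φ M) ⊤ p) :
    hMap φ (0 : M ⟶ N) p x = 0 := by
  refine ((congrArg (fun a => eMap a ⊤ p x) ((toAbF X).map_zero M N)).trans ?_ :)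
  rw [eMap_apply, Abelian.Ext.mk₀_zero, Abelian.Ext.comp_zero]

/-- The connecting map of a short exact sequence of modules. -/
noncomputable abbrev hDelta {S : ShortComplex X.Modules} (hS : S.ShortExact) (p : ℕ) :
    HMod (modRSh φ S.X₃) ⊤ p →ₗ[A] HMod (modRSh φ S.X₁) ⊤ (p + 1) :=
  (modSES φ S hS).delta ⊤ p

theorem hDelta_naturality {S T : ShortComplex X.Modules} (hS : S.ShortExact) (hT : T.ShortExact)
    (f : S ⟶ T) (p : ℕ) (x : HMod (modRSh φ S.X₃) ⊤ p) :
    hMap φ f.τ₁ (p + 1) (hDelta φ hS p x) = hDelta φ hT p (hMap φ f.τ₃ p x) :=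
  eDelta_naturality (S := (modSES φ S hS).sc) (modSES φ S hS).shortExact
    (T := (modSES φ T hT).sc) (modSES φ T hT).shortExact ((toAbF X).mapShortComplex.map f) ⊤ p x

theorem hMap_g_eq_zero {S : ShortComplex X.Modules} (hS : S.ShortExact) (p : ℕ)
    (y : HMod (modRSh φ S.X₂) ⊤ p) : hMap φ S.g p y = 0 ↔ ∃ w, hMap φ S.f p w = y :=
  eMap_g_eq_zero_iff (S := (modSES φ S hS).sc) (modSES φ S hS).shortExact ⊤ p y

theorem hDelta_eq_zero {S : ShortComplex X.Modules} (hS : S.ShortExact) (p : ℕ)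
    (y : HMod (modRSh φ S.X₃) ⊤ p) : hDelta φ hS p y = 0 ↔ ∃ w, hMap φ S.g p w = y :=
  eDelta_eq_zero_iff (S := (modSES φ S hS).sc) (modSES φ S hS).shortExact ⊤ p y

theorem hMap_f_eq_zero {S : ShortComplex X.Modules} (hS : S.ShortExact) (p : ℕ)
    (y : HMod (modRSh φ S.X₁) ⊤ (p + 1)) : hMap φ S.f (p + 1) y = 0 ↔ ∃ w, hDelta φ hS p w = y :=
  eMap_f_eq_zero_iff (S := (modSES φ S hS).sc) (modSES φ S hS).shortExact ⊤ p y

theorem shortExact_image {M' N' : X.Modules} (f : M' ⟶ N') : (ShortComplex.mk (Abelian.image.ι f) (cokernel.π f)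
    (kernel.condition _)).ShortExact :=
  { exact := ShortComplex.exact_kernel (cokernel.π f) }

variable {φ} [IsNoetherian X] [IsNoetherianRing A] {C : Set X}

/-- The graded kernel of an operator of a stable system is stable. -/
theorem jEpi_kernel {r : ℕ} {N : ℕ → X.Modules} (hN : ∀ n, Coh.IsCoh (N n))
    (t : Fin (r + 1) → ∀ n, N n ⟶ N (n + 1))
    (hc : ∀ j k n, t k n ≫ t j (n + 1) = t j n ≫ t k (n + 1)) (hst : JEpi t)
    (tK : Fin r → ∀ n, kernel (t (Fin.last r) n) ⟶ kernel (t (Fin.last r) (n + 1)))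
    (htK : ∀ k n, tK k n ≫ kernel.ι _ = kernel.ι _ ≫ t k.castSucc n) : JEpi tK := by
  classical
  obtain ⟨c, hc'⟩ := hst
  obtain ⟨F, hF⟩ := isCompact_univ.elim_finite_subcover (fun U : X.affineOpens => (U.1 : Set X))
    (fun U => U.1.2) (fun x _ => by
      obtain ⟨U, hU, hxU, -⟩ := exists_isAffineOpen_mem_and_subset (Opens.mem_top x)
      exact Set.mem_iUnion.2 ⟨⟨U, hU⟩, hxU⟩)
  have hsec : ∀ U : X.affineOpens, ∃ cU, ∀ n, cU ≤ n → ∀ y : Γ(N (n + 1), U.1),
      (t (Fin.last r) (n + 1)).app U.1 y = 0 → ∃ z : Fin (r + 1) → Γ(N n, U.1),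
        (∀ k, (t (Fin.last r) n).app U.1 (z k) = 0) ∧ y = ∑ k, (t k n).app U.1 (z k) := by
    intro U
    have : IsNoetherianRing Γ(X, U.1) := IsLocallyNoetherian.component_noetherian U
    have : ∀ n, IsNoetherian Γ(X, U.1) Γ(N n, U.1) := fun n => by
      have := (isCoh_iff.1 (hN n)).2 U
      exact isNoetherian_of_isNoetherianRing_of_finite _ _
    have hcomm : ∀ j k n (x : Γ(N n, U.1)), appLinearMap (t j (n + 1)) U.1 (appLinearMap (t k n) U.1 x) =
        appLinearMap (t k (n + 1)) U.1 (appLinearMap (t j n) U.1 x) := fun j k n x =>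
      congrArg (fun a : N n ⟶ N (n + 2) => a.app U.1 x) (hc j k n)
    obtain ⟨cU, hcU⟩ := stable_sub (fun k n => appLinearMap (t k n) U.1) hcomm
      ⟨c, fun n hn y => sections_of_jointlyEpi (hN n) (hN (n + 1)) (fun k => t k n) (hc' n hn) U.2 y⟩
      (fun n => LinearMap.ker (appLinearMap (t (Fin.last r) n) U.1)) (fun k n x hx => by
        have hx' : appLinearMap (t (Fin.last r) n) U.1 x = 0 := hx
        rw [LinearMap.mem_ker, hcomm, hx', map_zero])
    exact ⟨cU, fun n hn y hy => hcU n hn y hy⟩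
  choose cU hcU using hsec
  refine ⟨F.sup cU, fun n hn Z g hg => ?_⟩
  have := (hN (n + 1)).1
  have := (hN (n + 1 + 1)).1
  have : (kernel (t (Fin.last r) (n + 1))).IsQuasicoherent := isQuasicoherent_kernel _
  refine eq_zero_of_sections (fun U : F => U.1.1) (fun U => U.1.2) (fun x => ?_) g fun U s => ?_
  · obtain ⟨U, hU, hxU⟩ := Set.mem_iUnion₂.1 (hF (Set.mem_univ x))
    exact ⟨⟨U, hU⟩, hxU⟩
  · let K := fun n => kernel (t (Fin.last r) n)
    obtain ⟨z, hz, hzs⟩ := hcU U.1 n ((Finset.le_sup U.2).trans hn) ((kernel.ι _ : K (n + 1) ⟶ _).app U.1.1 s)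
      ((exists_kernel_app_eq _ _ _).2 ⟨s, rfl⟩)
    choose w hw using fun k => (exists_kernel_app_eq _ _ _).1 (hz k)
    have hs : s = ∑ k : Fin r, (tK k n).app U.1.1 (w k.castSucc) := by
      refine (mono_iff_app_injective (kernel.ι (t (Fin.last r) (n + 1)))).mp inferInstance U.1.1 ?_
      rw [hzs, map_sum, Fin.sum_univ_castSucc, ← hw (Fin.last r)]
      rw [show (t (Fin.last r) n).app U.1.1 ((kernel.ι _ : K n ⟶ _).app U.1.1 (w (Fin.last r))) = 0 from
        congrArg (fun a : K n ⟶ N (n + 1) => a.app U.1.1 (w (Fin.last r))) (kernel.condition _), add_zero]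
      refine Finset.sum_congr rfl fun k _ => ?_
      rw [← hw]
      exact (congrArg (fun a : K n ⟶ N (n + 1) => a.app U.1.1 (w k.castSucc)) (htK k n)).symm
    rw [hs, map_sum]
    exact Finset.sum_eq_zero fun k _ =>
      congrArg (fun a : K n ⟶ Z => a.app U.1.1 (w k.castSucc)) (hg k)

/-- The cohomology of a stable system is stable. -/
theorem stable_cohomology
    (hfin : ∀ F : X.Modules, Coh.IsCoh F → CohB1.support F ⊆ C → AllFin φ F) :
    ∀ (r : ℕ) (N : ℕ → X.Modules) (t : Fin r → ∀ n, N n ⟶ N (n + 1)),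
      (∀ n, Coh.IsCoh (N n)) → (∀ n, CohB1.support (N n) ⊆ C) →
      (∀ j k n, t k n ≫ t j (n + 1) = t j n ≫ t k (n + 1)) → JEpi t →
      ∀ p, Stable fun k n => hMap φ (t k n) p
  | 0, N, t, _, _, _, ⟨c, hc⟩, p => ⟨c, fun n hn y => ⟨fun k => k.elim0, by
      rw [← hMap_id φ p y, hc n hn _ (𝟙 _) (fun k => k.elim0), hMap_zero]
      simp⟩⟩
  | r + 1, N, t, hN, hs, hcomm, hst, p => by
    let T := fun n => t (Fin.last r) n
    let K := fun n => kernel (T n)
    let I := fun n => Abelian.image (T n)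
    let Cf : ℕ → X.Modules := fun | 0 => N 0 | n + 1 => cokernel (T n)
    let π : ∀ n, N n ⟶ Cf n := fun | 0 => 𝟙 _ | n + 1 => cokernel.π (T n)
    have hπepi : ∀ n, Epi (π n) := fun n => by cases n <;> (dsimp [π]; infer_instance)
    have hTπ : ∀ n, T n ≫ π (n + 1) = 0 := fun n => cokernel.condition _
    let tK : Fin r → ∀ n, K n ⟶ K (n + 1) := fun k n =>
      kernel.lift _ (kernel.ι (T n) ≫ t k.castSucc n) (by
        rw [Category.assoc, hcomm (Fin.last r) k.castSucc n, kernel.condition_assoc, zero_comp])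
    have htK : ∀ k n, tK k n ≫ kernel.ι _ = kernel.ι _ ≫ t k.castSucc n := fun k n => kernel.lift_ι _ _ _
    let tC : Fin r → ∀ n, Cf n ⟶ Cf (n + 1) := fun k n => match n with
      | 0 => t k.castSucc 0 ≫ π 1
      | n + 1 => cokernel.desc (T n) (t k.castSucc (n + 1) ≫ π (n + 1 + 1)) (by
          rw [← Category.assoc, hcomm k.castSucc (Fin.last r) n, Category.assoc, hTπ, comp_zero])
    have htC : ∀ k n, π n ≫ tC k n = t k.castSucc n ≫ π (n + 1) := fun k n => by
      cases n with
      | zero => exact Category.id_comp _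
      | succ n => exact cokernel.π_desc _ _ _
    let tI : Fin r → ∀ n, I n ⟶ I (n + 1) := fun k n =>
      kernel.lift _ (Abelian.image.ι (T n) ≫ t k.castSucc (n + 1)) (by
        have : Abelian.image.ι (T n) ≫ π (n + 1) = 0 := kernel.condition _
        rw [Category.assoc]
        change Abelian.image.ι (T n) ≫ t k.castSucc (n + 1) ≫ π (n + 1 + 1) = 0
        rw [← htC k (n + 1), ← Category.assoc, this, zero_comp])
    have htI : ∀ k n, tI k n ≫ Abelian.image.ι _ = Abelian.image.ι _ ≫ t k.castSucc (n + 1) :=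
      fun k n => kernel.lift_ι _ _ _
    have hfac : ∀ k n, t k.castSucc n ≫ Abelian.factorThruImage (T (n + 1)) =
        Abelian.factorThruImage (T n) ≫ tI k n := fun k n => by
      rw [← cancel_mono (Abelian.image.ι (T (n + 1))), Category.assoc, Category.assoc, htI,
        Abelian.image.fac, ← Category.assoc, Abelian.image.fac, hcomm (Fin.last r) k.castSucc n]
    have hqN : ∀ n, (N n).IsQuasicoherent := fun n => (hN n).1
    have hKc : ∀ n, Coh.IsCoh (K n) := fun n => isCoh_kernel (T n) (hN n) (hN (n + 1)).1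
    have hCc : ∀ n, Coh.IsCoh (Cf n) := fun n => by
      cases n with
      | zero => exact hN 0
      | succ n => exact isCoh_cokernel (T n) (hN n).1 (hN (n + 1))
    have hKs : ∀ n, CohB1.support (K n) ⊆ C := fun n => (support_subset_of_mono (kernel.ι (T n))).trans (hs n)
    have hCs : ∀ n, CohB1.support (Cf n) ⊆ C := fun n =>
      have := hπepi n
      (support_subset_of_epi (π n)).trans (hs n)
    have hCst : JEpi tC := by
      obtain ⟨c, hc⟩ := hst
      refine ⟨c, fun n hn Z g hg => ?_⟩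
      have := hπepi (n + 1)
      rw [← cancel_epi (π (n + 1)), comp_zero]
      refine hc n hn Z _ fun k => ?_
      refine Fin.lastCases ?_ (fun k => ?_) k
      · rw [← Category.assoc, hTπ, zero_comp]
      · rw [← Category.assoc, ← htC, Category.assoc, hg, comp_zero]
    have hcC : ∀ j k n, tC k n ≫ tC j (n + 1) = tC j n ≫ tC k (n + 1) := fun j k n => by
      have := hπepi n
      rw [← cancel_epi (π n)]
      refine (Category.assoc _ _ _).symm.trans ?_
      refine ((congrArg (· ≫ tC j (n + 1)) (htC k n)).trans ((Category.assoc _ _ _).trans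
        (congrArg (t k.castSucc n ≫ ·) (htC j (n + 1))))).trans ?_
      refine Eq.trans ?_ (((congrArg (· ≫ tC k (n + 1)) (htC j n)).trans ((Category.assoc _ _ _).trans
        (congrArg (t j.castSucc n ≫ ·) (htC k (n + 1))))).symm.trans (Category.assoc _ _ _))
      rw [← Category.assoc, ← Category.assoc, hcomm]
    have hcK : ∀ j k n, tK k n ≫ tK j (n + 1) = tK j n ≫ tK k (n + 1) := fun j k n => by
      rw [← cancel_mono (kernel.ι (T (n + 1 + 1))), Category.assoc, Category.assoc, htK, htK,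
        reassoc_of% htK k n, reassoc_of% htK j n, hcomm]
    have hKst : JEpi tK := jEpi_kernel hN t hcomm hst tK htK
    have ihC := stable_cohomology hfin r Cf tC hCc hCs hcC hCst p
    have ihK := stable_cohomology hfin r K tK hKc hKs hcK hKst (p + 1)
    have : ∀ n, IsNoetherian A (HMod (modRSh φ (Cf n)) ⊤ p) := fun n =>
      have := hfin _ (hCc n) (hCs n) p
      isNoetherian_of_isNoetherianRing_of_finite _ _
    have : ∀ n, IsNoetherian A (HMod (modRSh φ (K n)) ⊤ (p + 1)) := fun n =>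
      have := hfin _ (hKc n) (hKs n) (p + 1)
      isNoetherian_of_isNoetherianRing_of_finite _ _
    let S1 := fun n => ShortComplex.mk (kernel.ι (T n)) (Abelian.factorThruImage (T n))
      (by rw [← cancel_mono (Abelian.image.ι (T n)), Category.assoc, Abelian.image.fac, kernel.condition, zero_comp])
    have hS1 : ∀ n, (S1 n).ShortExact := fun n => shortExact_kernel (T n)
    have h1 : ∀ j k n x, hMap φ (tC j (n + 1)) p (hMap φ (tC k n) p x) =
        hMap φ (tC k (n + 1)) p (hMap φ (tC j n) p x) := fun j k n x => by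
      rw [← hMap_comp, ← hMap_comp, hcC]
    have h2 : ∀ j k n x, hMap φ (tK j (n + 1)) (p + 1) (hMap φ (tK k n) (p + 1) x) =
        hMap φ (tK k (n + 1)) (p + 1) (hMap φ (tK j n) (p + 1) x) := fun j k n x => by
      rw [← hMap_comp, ← hMap_comp, hcK]
    have h3 : ∀ n v, hMap φ (T n) p v =
        hMap φ (Abelian.image.ι (T n)) p (hMap φ (Abelian.factorThruImage (T n)) p v) := fun n v => by
      rw [← hMap_comp, Abelian.image.fac]
    have h4 : ∀ k n w, hDelta φ (hS1 (n + 1)) p (hMap φ (tI k n) p w) =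
        hMap φ (tK k n) (p + 1) (hDelta φ (hS1 n) p w) := fun k n w =>
      (hDelta_naturality φ (hS1 n) (hS1 (n + 1))
        { τ₁ := tK k n, τ₂ := t k.castSucc n, τ₃ := tI k n, comm₁₂ := htK k n, comm₂₃ := hfac k n } p w).symm
    have h5 : ∀ k n w, hMap φ (Abelian.image.ι (T (n + 1))) p (hMap φ (tI k n) p w) =
        hMap φ (t k.castSucc (n + 1)) p (hMap φ (Abelian.image.ι (T n)) p w) := fun k n w => by
      rw [← hMap_comp, ← hMap_comp, htI]
    have h6 : ∀ k n y, hMap φ (π (n + 1 + 1)) p (hMap φ (t k.castSucc (n + 1)) p y) =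
        hMap φ (tC k (n + 1)) p (hMap φ (π (n + 1)) p y) := fun k n y => by
      rw [← hMap_comp, ← hMap_comp]
      exact congrArg (fun a => hMap φ a p y) (htC k (n + 1)).symm
    exact stable_of_exact (G := fun n => HMod (modRSh φ (N n)) ⊤ p) (I := fun n => HMod (modRSh φ (I n)) ⊤ p)
      (Cq := fun n => HMod (modRSh φ (Cf n)) ⊤ p) (Kd := fun n => HMod (modRSh φ (K n)) ⊤ (p + 1))
      (fun k n => hMap φ (t k n) p) (fun k n => hMap φ (tI k n) p)
      (fun k n => hMap φ (tC k n) p) (fun k n => hMap φ (tK k n) (p + 1)) h1 h2 ihC ihK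
      (fun n => hMap φ (Abelian.factorThruImage (T n)) p) (fun n => hDelta φ (hS1 n) p)
      (fun n => hMap φ (Abelian.image.ι (T n)) p) (fun n => hMap φ (π (n + 1)) p)
      (fun n w h => (hDelta_eq_zero φ (hS1 n) p w).1 h)
      (fun n y h => (hMap_g_eq_zero φ (shortExact_image (T n)) p y).1 h) h3 h4 h5 h6

end

end Groth.Agent.FormalFun
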