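import Groth.Agent.FormalFun.AdicFilt

/-!
# Artin–Rees and Mittag-Leffler for the cohomology of `M/I^n M`

The hypothesis is that coherent modules supported in the support of `M` have finite cohomology.
-/

set_option backward.isDefEq.respectTransparency false

universe u

open CategoryTheory CategoryTheory.Limits AlgebraicGeometry TopologicalSpace Opposite
open scoped Groth.Agent.CohVanish

namespace Groth.Agent.FormalFun

open Groth.Agent.CohFinite Groth.Agent.CechCmp Groth.Agent.CohVanish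

variable {A : Type u} [CommRing A] {X : Scheme.{u}} [X.Over (Spec (CommRingCat.of A))]

local notation "φ₀" => Coh.toGlobal (X ↘ Spec (CommRingCat.of A))

/-- The hypothesis of finiteness. -/
def HasFin (M : X.Modules) : Prop :=
  ∀ F : X.Modules, Coh.IsCoh F → CohB1.support F ⊆ CohB1.support M → AllFin φ₀ F

theorem hMap_smulMod (M : X.Modules) (a : A) (p : ℕ) (x : HMod (modRSh φ₀ M) ⊤ p) :
    hMap φ₀ (Formal.smulMod A M a) p x = a • x := by
  refine congrArg (fun α => eMap α ⊤ p x) ?_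
  exact abSh_hom_ext fun W m => rfl

variable (I : Ideal A) (M : X.Modules)

/-- `H^p(M) ⟶ H^p(M/I^n M)`. -/
noncomputable abbrev qMap (p n : ℕ) :
    HMod (modRSh φ₀ M) ⊤ p →ₗ[A] HMod (modRSh φ₀ (Formal.modPow I n M)) ⊤ p :=
  hMap φ₀ (Formal.modPowπ I n M) p

/-- `H^p(M/I^n M) ⟶ H^p(M/I^m M)`. -/
noncomputable abbrev trMap (p : ℕ) {m n : ℕ} (h : m ≤ n) :
    HMod (modRSh φ₀ (Formal.modPow I n M)) ⊤ p →ₗ[A] HMod (modRSh φ₀ (Formal.modPow I m M)) ⊤ p :=
  hMap φ₀ (filPr I M h) p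

theorem trMap_qMap (p : ℕ) {m n : ℕ} (h : m ≤ n) (x : HMod (modRSh φ₀ M) ⊤ p) :
    trMap I M p h (qMap I M p n x) = qMap I M p m x := by
  rw [← hMap_comp, modPowπ_filPr]

theorem pow_smul_le_ker (p n : ℕ) :
    I ^ n • (⊤ : Submodule A (HMod (modRSh φ₀ M) ⊤ p)) ≤ LinearMap.ker (qMap I M p n) :=
  Submodule.smul_le.2 fun b hb x _ => by
    rw [LinearMap.mem_ker, ← hMap_smulMod, ← hMap_comp, smulMod_modPowπ I M n hb, hMap_zero]

theorem qMap_eq_zero_iff (p n : ℕ) (y : HMod (modRSh φ₀ M) ⊤ p) :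
    qMap I M p n y = 0 ↔ ∃ w, hMap φ₀ (filι I M n) p w = y :=
  hMap_g_eq_zero φ₀ (shortExact_fil I M n) p y

variable [IsNoetherianRing A] [IsNoetherian X] {M}

theorem stable_fil (hM : Coh.IsCoh M) (hfin : HasFin (A := A) M) (p : ℕ) :
    ∃ (r : ℕ) (a : Fin r → I), Ideal.span (Set.range fun k => (a k : A)) = I ∧
      (∀ n, Coh.IsCoh (fil I M n)) ∧
      Stable fun k n => hMap φ₀ (filMul I M (a k) n) p := by
  obtain ⟨r, s, hs⟩ := Submodule.fg_iff_exists_fin_generating_family.1 (IsNoetherian.noetherian I)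
  let a : Fin r → I := fun k => ⟨s k, hs.le (Submodule.subset_span ⟨k, rfl⟩)⟩
  have ha : Ideal.span (Set.range fun k => (a k : A)) = I := hs
  have hc := isCoh_fil (I := I) a ha hM
  exact ⟨r, a, ha, hc, stable_cohomology hfin r (fil I M) (fun k n => filMul I M (a k) n) hc
    (fun n => support_subset_of_mono (filι I M n)) (fun j k n => filMul_comm I M (a k) (a j) n)
    ⟨0, fun n _ => jointlyEpi_filMul a ha n⟩ p⟩

theorem ker_qMap_succ (hM : Coh.IsCoh M) (hfin : HasFin (A := A) M) (p : ℕ) :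
    ∃ c, ∀ n, c ≤ n → LinearMap.ker (qMap I M p (n + 1)) = I • LinearMap.ker (qMap I M p n) := by
  obtain ⟨r, a, -, -, c, hc⟩ := stable_fil I hM hfin p
  refine ⟨c, fun n hn => le_antisymm (fun y hy => ?_) (Submodule.smul_le.2 fun b hb x hx => ?_)⟩
  · obtain ⟨w, rfl⟩ := (qMap_eq_zero_iff I M p (n + 1) y).1 hy
    obtain ⟨z, rfl⟩ := hc n hn w
    rw [map_sum]
    refine sum_mem fun k _ => ?_
    rw [← hMap_comp, filMul_ι, hMap_comp, hMap_smulMod]
    exact Submodule.smul_mem_smul (a k).2 ((qMap_eq_zero_iff I M p n _).2 ⟨_, rfl⟩)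
  · obtain ⟨w, rfl⟩ := (qMap_eq_zero_iff I M p n x).1 hx
    refine (qMap_eq_zero_iff I M p (n + 1) _).2 ⟨hMap φ₀ (filMul I M ⟨b, hb⟩ n) p w, ?_⟩
    rw [← hMap_comp, filMul_ι, hMap_comp, hMap_smulMod]

theorem ker_qMap_le (hM : Coh.IsCoh M) (hfin : HasFin (A := A) M) (p : ℕ) :
    ∃ c, ∀ n, c ≤ n → LinearMap.ker (qMap I M p n) ≤ I ^ (n - c) • ⊤ := by
  obtain ⟨c, hc⟩ := ker_qMap_succ I hM hfin p
  refine ⟨c, fun n hn => ?_⟩
  obtain ⟨j, rfl⟩ := Nat.exists_eq_add_of_le hn
  induction j with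
  | zero => simp
  | succ j ih =>
    rw [← add_assoc, hc (c + j) (by omega), show c + j + 1 - c = j + 1 by omega, pow_succ', Submodule.mul_smul]
    refine Submodule.smul_mono le_rfl ((ih (by omega)).trans ?_)
    rw [Nat.add_sub_cancel_left]

theorem range_trMap (hM : Coh.IsCoh M) (hfin : HasFin (A := A) M) (p : ℕ) :
    ∃ d, ∀ (n k : ℕ) (h : n ≤ k), n + d ≤ k →
      LinearMap.range (trMap I M p h) = LinearMap.range (qMap I M p n) := by
  obtain ⟨r, a, ha, hcoh, hst⟩ := stable_fil I hM hfin (p + 1)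
  let K : ∀ n, Submodule A (HMod (modRSh φ₀ (fil I M n)) ⊤ (p + 1)) :=
    fun n => LinearMap.ker (hMap φ₀ (filι I M n) (p + 1))
  have hcomm : ∀ j k n x, hMap φ₀ (filMul I M (a j) (n + 1)) (p + 1) (hMap φ₀ (filMul I M (a k) n) (p + 1) x) =
      hMap φ₀ (filMul I M (a k) (n + 1)) (p + 1) (hMap φ₀ (filMul I M (a j) n) (p + 1) x) := fun j k n x => by
    rw [← hMap_comp, ← hMap_comp, filMul_comm]
  have : ∀ n, IsNoetherian A (HMod (modRSh φ₀ (fil I M n)) ⊤ (p + 1)) := fun n =>
    have := hfin _ (hcoh n) (support_subset_of_mono (filι I M n)) (p + 1)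
    isNoetherian_of_isNoetherianRing_of_finite _ _
  obtain ⟨c, hc⟩ := stable_sub (fun k n => hMap φ₀ (filMul I M (a k) n) (p + 1)) hcomm hst K
    (fun k n x hx => by
      rw [LinearMap.mem_ker, ← hMap_comp, filMul_ι, hMap_comp, LinearMap.mem_ker.1 hx, map_zero])
  -- `I^c` kills all the `K n`
  have hkill : ∀ (n : ℕ) (b : A), b ∈ I ^ c → ∀ x ∈ K n, b • x = 0 := by
    intro n
    induction n using Nat.strong_induction_on with
    | _ n ih =>
      intro b hb x hx
      by_cases hn : n ≤ c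
      · obtain ⟨z, rfl⟩ := (hMap_f_eq_zero φ₀ (shortExact_fil I M n) p x).1 hx
        rw [← map_smul, ← hMap_smulMod, killed_modPow I M n (Ideal.pow_le_pow_right hn hb), hMap_zero, map_zero]
      · obtain ⟨m, rfl⟩ : ∃ m, n = m + 1 := ⟨n - 1, by omega⟩
        obtain ⟨z, hz, rfl⟩ := hc m (by omega) x hx
        rw [Finset.smul_sum]
        refine Finset.sum_eq_zero fun k _ => ?_
        rw [← map_smul, ih m (by omega) b hb _ (hz k), map_zero]
  refine ⟨2 * c, fun n k h hk => le_antisymm ?_ ?_⟩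
  · rintro _ ⟨z, rfl⟩
    let e := max c n
    have hne : n ≤ e := le_max_right _ _
    have claim : ∀ j, ∀ x ∈ K (e + j),
        hMap φ₀ (filIncl I M (hne.trans (Nat.le_add_right e j))) (p + 1) x ∈ I ^ j • K n := by
      intro j
      induction j with
      | zero =>
        intro x hx
        rw [pow_zero, Ideal.one_eq_top, Submodule.top_smul, LinearMap.mem_ker, ← hMap_comp, filIncl_ι]
        exact hx
      | succ j ih =>
        intro x hx
        obtain ⟨w, hw, rfl⟩ := hc (e + j) ((le_max_left c n).trans (Nat.le_add_right e j)) x hx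
        rw [map_sum, pow_succ', Submodule.mul_smul]
        refine sum_mem fun l _ => ?_
        dsimp only
        refine (congrArg (· ∈ _) (hMap_comp φ₀ (filMul I M (a l) (e + j))
          (filIncl I M ((hne.trans (Nat.le_add_right e j)).trans (Nat.le_succ (e + j)))) (p + 1) (w l)).symm).mpr ?_
        rw [filMul_incl I M (a l) (hne.trans (Nat.le_add_right e j)), hMap_comp, hMap_smulMod]
        exact Submodule.smul_mem_smul (a l).2 (ih _ (hw l))
    obtain ⟨j, rfl⟩ := Nat.exists_eq_add_of_le (show e ≤ k by simp only [e]; omega)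
    have hj : c ≤ j := by simp only [e] at hk; omega
    have hx : hDelta φ₀ (shortExact_fil I M (e + j)) p z ∈ K (e + j) :=
      (hMap_f_eq_zero φ₀ (shortExact_fil I M (e + j)) p _).2 ⟨z, rfl⟩
    have h0 : hMap φ₀ (filIncl I M h) (p + 1) (hDelta φ₀ (shortExact_fil I M (e + j)) p z) = 0 := by
      have h1 : I ^ j • K n ≤ ⊥ := Submodule.smul_le.2 fun b hb x hx =>
        (Submodule.mem_bot A).2 (hkill n b (Ideal.pow_le_pow_right hj hb) x hx)
      exact (Submodule.mem_bot A).1 (h1 (claim j _ hx))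
    rw [show hMap φ₀ (filIncl I M h) (p + 1) (hDelta φ₀ (shortExact_fil I M (e + j)) p z) =
        hDelta φ₀ (shortExact_fil I M n) p (trMap I M p h z) from
      hDelta_naturality φ₀ (shortExact_fil I M (e + j)) (shortExact_fil I M n)
        { τ₁ := filIncl I M h, τ₂ := 𝟙 M, τ₃ := filPr I M h,
          comm₁₂ := by change filIncl I M h ≫ filι I M n = filι I M (e + j) ≫ 𝟙 M
                       rw [filIncl_ι, Category.comp_id]
          comm₂₃ := by change 𝟙 M ≫ Formal.modPowπ I n M = Formal.modPowπ I (e + j) M ≫ filPr I M h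
                       rw [modPowπ_filPr, Category.id_comp] } p z] at h0
    obtain ⟨v, hv⟩ := (hDelta_eq_zero φ₀ (shortExact_fil I M n) p _).1 h0
    exact ⟨v, hv⟩
  · rintro _ ⟨v, rfl⟩
    exact ⟨qMap I M p k v, trMap_qMap I M p h v⟩

end Groth.Agent.FormalFun
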